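import Groth.Agent.Lib.CohDelta.Flasque
import Groth.Agent.Lib.Curves.GlobalSections
import Groth.Agent.Lib.ExtShStalk.Cor
import Groth.Agent.Lib.SSAbs.Basic
import Groth.Agent.Lib.Modules.Support
import Groth.Agent.S11919
import Groth.Agent.S11155

/-!
# Global Ext of modules whose local Ext's are concentrated at one closed point
-/

set_option autoImplicit false
set_option linter.style.haveILetI false

universe u

open CategoryTheory CategoryTheory.Limits AlgebraicGeometry TopologicalSpace Opposite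
open scoped ZeroObject

namespace Groth.Agent.H56.PointHom

open Groth.Agent.Lib

section Sections

variable {X : Scheme.{u}} {x : X} (M : X.Modules) (hM : CohB1.support M ⊆ {x})
  (hx : IsClosed ({x} : Set X))

include hM hx in
/-- Sections of a module supported at a closed point extend. -/
theorem exists_extend {V U : X.Opens} (h : V ≤ U) (s : Γ(M, V)) :
    ∃ t : Γ(M, U), M.presheaf.map (homOfLE h).op t = s := by
  by_cases hxV : x ∈ V
  swap
  · refine ⟨0, ?_⟩
    rw [map_zero, Modules.Support.eq_zero_of_germ_eq_zero s fun y hy hys => absurd (hM hys ▸ hy) hxV]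
  let F : TopCat.Sheaf AddCommGrpCat.{u} X := ⟨M.presheaf, M.isSheaf⟩
  let W : Bool → X.Opens := fun b => if b then V else U ⊓ ⟨{x}ᶜ, hx.isOpen_compl⟩
  have hW : ∀ b, W b ≤ U := fun b => by cases b <;> simp [W, h]
  let sf : ∀ b, Γ(M, W b) := fun b => match b with
    | true => s
    | false => 0
  have hcov : U ≤ iSup W := fun y hy => by
    rw [Opens.mem_iSup]
    by_cases hyx : y = x
    · exact ⟨true, by simpa [W, hyx] using hxV⟩
    · exact ⟨false, by simpa [W] using ⟨hy, hyx⟩⟩
  have hcompat : TopCat.Presheaf.IsCompatible F.obj W sf := by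
    intro a b
    refine sub_eq_zero.1 (Modules.Support.eq_zero_of_germ_eq_zero _ fun y hy hys => ?_)
    obtain rfl : y = x := hM hys
    have hy1 : y ∈ W a := hy.1
    have hy2 : y ∈ W b := hy.2
    cases a
    · exact absurd rfl (show ¬ y = y from hy1.2)
    cases b
    · exact absurd rfl (show ¬ y = y from hy2.2)
    rw [show (F.obj.map (TopologicalSpace.Opens.infLELeft (W true) (W true)).op) =
      F.obj.map (TopologicalSpace.Opens.infLERight (W true) (W true)).op from
        congrArg _ (congrArg _ (Subsingleton.elim _ _)), sub_self, map_zero]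
  obtain ⟨t, ht, -⟩ := F.existsUnique_gluing' W U (fun b => homOfLE (hW b)) hcov sf hcompat
  exact ⟨t, ht true⟩

include hM hx in
theorem isFlasque_toAb : TopCat.Sheaf.IsFlasque (Coh.toAb M) where
  epi {U V} i := (AddCommGrpCat.epi_iff_surjective _).mpr fun s =>
    exists_extend M hM hx (leOfHom i.unop) s

include hM hx in
theorem subsingleton_HH_succ (n : ℕ) : Subsingleton (Coh.HH X M (n + 1)) := by
  haveI := isFlasque_toAb M hM hx
  exact ZarCoh.Basic.H_flasque (Coh.toAb M) n

include hM hx in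
theorem not_subsingleton_HH_zero (h : x ∈ CohB1.support M) : ¬ Subsingleton (Coh.HH X M 0) := by
  intro hsub
  apply h
  refine subsingleton_of_forall_eq 0 fun v => ?_
  obtain ⟨U, hU, s, rfl⟩ := TopCat.Presheaf.exists_germ_eq M.presheaf v
  obtain ⟨t, rfl⟩ := exists_extend M hM hx (le_top : U ≤ ⊤) s
  haveI hs := (Curves.GlobalSections.h0Equiv M).symm.injective.subsingleton
  rw [show t = 0 from @Subsingleton.elim _ hs t 0, map_zero, map_zero]

end Sections

variable {X : Scheme.{u}} [IsNoetherian X] {x : X} (hx : IsClosed ({x} : Set X)) {F G : X.Modules}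
  (hF : Coh.IsCoh F)
  (hoff : ∀ y : X, y ≠ x → ∀ q : ℕ, Subsingleton (Abelian.Ext.{u}
    (ModuleCat.of (X.presheaf.stalk y) (F.presheaf.stalk y))
    (ModuleCat.of (X.presheaf.stalk y) (G.presheaf.stalk y)) q))

include hF hoff hx in
/-- `Ext^n(F, G)` vanishes iff the local `Ext^n` at the point does. -/
theorem subsingleton_ext_iff (n : ℕ) :
    Subsingleton (Abelian.Ext.{u} F G n) ↔ Subsingleton (Abelian.Ext.{u}
      (ModuleCat.of (X.presheaf.stalk x) (F.presheaf.stalk x))
      (ModuleCat.of (X.presheaf.stalk x) (G.presheaf.stalk x)) n) := by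
  haveI : ModSite.HasSheafHom (O := X.sheaf) F := ModTensor.ModSite.hasSheafHom _
  haveI : HasInjectiveResolutions (ModSite.Mod X.sheaf) :=
    inferInstanceAs (HasInjectiveResolutions X.Modules)
  obtain ⟨E, a, hfin, -, hE⟩ := Groth.Agent.S11919.result X F G
  have hinj : ∀ y : X, ExtShStalk.Cor.InjStalk (X := X) y := fun y I hI => Groth.Agent.S11155.result I hI y
  let M : ℕ → X.Modules := fun q => (ModSite.extSh (O := X.sheaf) F q).obj G
  have hsupp : ∀ q, CohB1.support (M q) ⊆ {x} := by
    intro q y hy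
    by_contra hne
    obtain ⟨φ⟩ := ExtShStalk.Cor.nonempty_stalk_equiv F hF (hinj y) G q
    haveI := hoff y hne q
    exact hy φ.toEquiv.subsingleton
  have hzero : ∀ p q : ℤ, p ≠ 0 → IsZero ((E.page 2 le_rfl).X (p, q)) := by
    intro p q hp
    obtain ⟨e⟩ := hE p q
    refine IsZero.of_iso ?_ e
    split_ifs with h
    swap
    · exact isZero_zero _
    obtain ⟨m, hm⟩ : ∃ m : ℕ, p.toNat = m + 1 := ⟨p.toNat - 1, by omega⟩
    rw [hm]
    haveI := subsingleton_HH_succ _ (hsupp q.toNat) hx m
    exact AddCommGrpCat.isZero_of_subsingleton _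
  have hstat : SpSeq.StationaryAt E (0, (n : ℤ)) 2 := ⟨le_rfl, fun k hk _ =>
    ⟨(SSAbs.Basic.isZero_page E le_rfl (hzero _ _ (by simp; omega)) k hk).eq_of_src _ _,
      (SSAbs.Basic.isZero_page E le_rfl (hzero _ _ (by simp; omega)) k hk).eq_of_tgt _ _⟩⟩
  obtain ⟨φ⟩ := ExtShStalk.Cor.nonempty_stalk_equiv F hF (hinj x) G n
  obtain ⟨eβ⟩ := SSAbs.Basic.nonempty_gr_of_le a (0, (n : ℤ)) n (by simp) (max 2 (a.rk (0, (n : ℤ))))
    (le_max_right _ _)
  obtain ⟨e2⟩ := SSAbs.Basic.nonempty_stat E hstat (max 2 (a.rk (0, (n : ℤ)))) (le_max_left _ _)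
  obtain ⟨eE⟩ := hE 0 n
  have hgr0 : IsZero (SpSeq.grPiece (a.fil n) (a.anti n) 0) ↔ Subsingleton (Coh.HH X (M n) 0) := by
    rw [if_pos ⟨le_rfl, Int.natCast_nonneg n⟩] at eE
    have key := Iso.isZero_iff (eβ ≪≫ e2 ≪≫ eE)
    constructor
    · exact fun h => AddCommGrpCat.subsingleton_of_isZero (key.1 h)
    · intro h
      exact key.2 (@AddCommGrpCat.isZero_of_subsingleton _ h)
  let H : AddCommGrpCat.{u} := (fun m : ℤ => if 0 ≤ m then AddCommGrpCat.of (Abelian.Ext.{u} F G m.toNat) else 0) (n : ℤ)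
  have hH : IsZero H ↔ Subsingleton (Abelian.Ext.{u} F G n) := by
    simp only [H, Int.natCast_nonneg, if_true, Int.toNat_natCast]
    exact ⟨fun h => AddCommGrpCat.subsingleton_of_isZero h,
      fun h => @AddCommGrpCat.isZero_of_subsingleton _ h⟩
  rw [← hH, ← φ.toEquiv.subsingleton_congr]
  constructor
  · intro h
    by_contra hne
    refine not_subsingleton_HH_zero _ (hsupp n) hx hne (hgr0.1 ?_)
    exact @IsZero.of_epi _ _ _ _ _ (cokernel.π _) coequalizer.π_epi (IsZero.of_mono (Subobject.arrow _) h)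
  · intro h
    have hM0 : IsZero (M n) := Modules.Support.support_eq_empty_iff.1 (Set.eq_empty_iff_forall_notMem.2
      fun y hy => by
        obtain rfl : y = x := hsupp n hy
        exact hy h)
    have hgr : ∀ p : ℤ, IsZero (SpSeq.grPiece (a.fil n) (a.anti n) p) := by
      intro p
      by_cases hp : p = 0
      · subst hp
        refine hgr0.2 ?_
        haveI := Functor.map_isZero (SheafOfModules.toSheaf X.ringCatSheaf) hM0
        refine subsingleton_of_forall_eq 0 fun v => ?_
        have h1 : v.comp (Abelian.Ext.mk₀ (𝟙 (Coh.toAb (M n)))) (add_zero 0) = v :=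
          Abelian.Ext.comp_mk₀_id v
        have h0 : IsZero (Coh.toAb (M n)) := Functor.map_isZero (SheafOfModules.toSheaf X.ringCatSheaf) hM0
        rw [← h1, h0.eq_of_tgt (𝟙 (Coh.toAb (M n))) 0, Abelian.Ext.mk₀_zero, Abelian.Ext.comp_zero]
      · exact SSAbs.Basic.isZero_gr a (p, (n : ℤ) - p) n (by simp) le_rfl (hzero _ _ hp)
    obtain ⟨⟨i, hi⟩, ⟨j, hj⟩⟩ := hfin n
    have h1 : a.fil n j = ⊤ := SSAbs.Basic.eq_top_of_isZero (a.anti n) hi fun k _ => hgr k
    have h2 : (⊥ : Subobject H) = ⊤ := hj.symm.trans h1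
    exact IsZero.of_iso ((isZero_zero _).of_iso Subobject.botCoeIsoZero)
      ((asIso (⊤ : Subobject H).arrow).symm ≪≫ eqToIso (by rw [h2]))

end Groth.Agent.H56.PointHom
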