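import Groth.Agent.Lib.ExtShStalk.Top
import Groth.Agent.Lib.Regular.Serre
import Groth.Agent.Lib.Depth.Ext
import Mathlib.RingTheory.SimpleModule.Basic

/-!
# `Hom(M, k)` and `Ext^d(k, M)` over a regular local ring of dimension `d`
-/

set_option autoImplicit false
set_option linter.style.haveILetI false

universe u

open CategoryTheory IsLocalRing CategoryTheory.Abelian

namespace Groth.Agent.H56.PointHom

open Groth.Agent.Lib

section Local

variable {R : Type u} [CommRing R] [IsLocalRing R]

/-- A module mapped bijectively onto a field semilinearly along a surjection is the residue field. -/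
theorem nonempty_equiv_residueField {V : Type u} [AddCommGroup V] [Module R V] {F : Type u} [Field F]
    (s : R →+* F) (hs : Function.Surjective s) (φ : V →+ F) (hφ : Function.Bijective φ)
    (h : ∀ (c : R) (a : V), φ (c • a) = s c * φ a) : Nonempty (V ≃ₗ[R] ResidueField R) := by
  obtain ⟨v, hv⟩ := hφ.2 1
  let f : R →ₗ[R] V := LinearMap.toSpanSingleton R V v
  have hf : ∀ r, φ (f r) = s r := fun r => by
    rw [LinearMap.toSpanSingleton_apply, h, hv, mul_one]
  have hsurj : Function.Surjective f := fun a => by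
    obtain ⟨r, hr⟩ := hs (φ a)
    exact ⟨r, hφ.1 ((hf r).trans hr)⟩
  haveI := RingHom.ker_isMaximal_of_surjective s hs
  have hker : LinearMap.ker f = maximalIdeal R := by
    rw [← IsLocalRing.eq_maximalIdeal (I := RingHom.ker s) inferInstance]
    ext r
    rw [LinearMap.mem_ker, RingHom.mem_ker, ← hf]
    exact ⟨fun h => by rw [h, map_zero], fun h => hφ.1 (h.trans (map_zero φ).symm)⟩
  exact ⟨(f.quotKerEquivOfSurjective hsurj).symm ≪≫ₗ Submodule.quotEquivOfEq _ _ hker⟩

/-- A nonzero finite module maps onto the residue field. -/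
theorem exists_surjective_residueField (M : Type u) [AddCommGroup M] [Module R M] [Module.Finite R M]
    [Nontrivial M] : ∃ f : M →ₗ[R] ResidueField R, Function.Surjective f := by
  obtain ⟨N, hN, -⟩ := (eq_top_or_exists_le_coatom (⊥ : Submodule R M)).resolve_left bot_ne_top
  haveI : IsSimpleModule R (M ⧸ N) := isSimpleModule_iff_isCoatom.2 hN
  obtain ⟨I, hI, ⟨e⟩⟩ := isSimpleModule_iff_quot_maximal.1 (inferInstance : IsSimpleModule R (M ⧸ N))
  obtain rfl := IsLocalRing.eq_maximalIdeal hI
  exact ⟨e.toLinearMap ∘ₗ N.mkQ, e.surjective.comp N.mkQ_surjective⟩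

/-- A nonzero finite module has a nonzero map to the residue field. -/
theorem not_subsingleton_hom (M : Type u) [AddCommGroup M] [Module R M] [Module.Finite R M]
    [Nontrivial M] {V : Type u} [AddCommGroup V] [Module R V] (e : V ≃ₗ[R] ResidueField R) :
    ¬ Subsingleton (Ext.{u} (ModuleCat.of R M) (ModuleCat.of R V) 0) := by
  obtain ⟨f, hf⟩ := exists_surjective_residueField (R := R) M
  obtain ⟨m, hm⟩ := hf (e (e.symm 1))
  intro hsub
  have h0 : ModuleCat.ofHom (e.symm.toLinearMap ∘ₗ f) = 0 :=
    Ext.homEquiv₀.symm.injective (@Subsingleton.elim _ hsub _ _)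
  have := congrArg (fun g => g.hom m) h0
  simp only [ModuleCat.hom_ofHom, LinearMap.comp_apply, LinearEquiv.coe_coe] at this
  rw [hm] at this
  simp at this

end Local

section Regular

variable {R : Type u} [CommRing R] [IsRegularLocalRing R] {d : ℕ}

theorem subsingleton_ext_above (hd : ringKrullDim R = d) (K M : Type u) [AddCommGroup K] [Module R K]
    [Module.Finite R K] [AddCommGroup M] [Module R M] {q : ℕ} (hq : d < q) :
    Subsingleton (Ext.{u} (ModuleCat.of R K) (ModuleCat.of R M) q) := by
  have hn : (maximalIdeal R).spanFinrank = d := by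
    have := ‹IsRegularLocalRing R›.spanFinrank_maximalIdeal
    rw [hd] at this
    exact_mod_cast this
  have h := Regular.Serre.pdle_all (R := R) K
  rw [hn] at h
  haveI : HasProjectiveDimensionLT (ModuleCat.of R K) (d + 1) := h
  exact HasProjectiveDimensionLT.subsingleton (ModuleCat.of R K) (d + 1) q (by omega) _

/-- Surjections of modules induce surjections on the top Ext from the residue field. -/
theorem exists_lift (hd : ringKrullDim R = d) {M N : Type u} [AddCommGroup M] [Module R M]
    [AddCommGroup N] [Module R N] (f : M →ₗ[R] N) (hf : Function.Surjective f)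
    (y : Ext.{u} (ModuleCat.of R (ResidueField R)) (ModuleCat.of R N) d) :
    ∃ x : Ext.{u} (ModuleCat.of R (ResidueField R)) (ModuleCat.of R M) d,
      x.comp (Ext.mk₀ (ModuleCat.ofHom f)) (add_zero d) = y := by
  let S : ShortComplex (ModuleCat.{u} R) := ShortComplex.mk (ModuleCat.ofHom (LinearMap.ker f).subtype)
    (ModuleCat.ofHom f) (by ext x; exact LinearMap.mem_ker.1 x.2)
  have hS : S.ShortExact :=
    { exact := (ShortComplex.ShortExact.moduleCat_exact_iff_function_exact S).2
        (LinearMap.exact_subtype_ker_map f)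
      mono_f := (ModuleCat.mono_iff_injective _).2 (LinearMap.ker f).injective_subtype
      epi_g := (ModuleCat.epi_iff_surjective _).2 hf }
  haveI := subsingleton_ext_above hd (ResidueField R) (LinearMap.ker f) (Nat.lt_succ_self d)
  exact Ext.covariant_sequence_exact₃ _ hS y rfl (@Subsingleton.elim _ this _ _)

/-- `Ext^d(k, k) ≠ 0`. -/
theorem nontrivial_ext_residueField (hd : ringKrullDim R = d) :
    Nontrivial (Ext.{u} (ModuleCat.of R (ResidueField R)) (ModuleCat.of R (ResidueField R)) d) := by
  haveI := ExtShStalk.Top.isSimpleModule_ext_residueField d hd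
  haveI := IsSimpleModule.nontrivial R (Ext.{u} (ModuleCat.of R (ResidueField R)) (ModuleCat.of R R) d)
  obtain ⟨y, hy⟩ := exists_ne (0 : Ext.{u} (ModuleCat.of R (ResidueField R)) (ModuleCat.of R R) d)
  refine ⟨⟨y.comp (Ext.mk₀ (ModuleCat.ofHom (Algebra.linearMap R (ResidueField R)))) (add_zero d), 0,
    fun h => hy ?_⟩⟩
  let S : ShortComplex (ModuleCat.{u} R) := ShortComplex.mk
    (ModuleCat.ofHom (maximalIdeal R).subtype) (ModuleCat.ofHom (Algebra.linearMap R (ResidueField R)))
    (by ext x; exact (residue_eq_zero_iff (x : R)).2 x.2)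
  have hS : S.ShortExact :=
    { exact := (ShortComplex.ShortExact.moduleCat_exact_iff_function_exact S).2 fun r =>
        ⟨fun hr => ⟨⟨r, (residue_eq_zero_iff r).1 hr⟩, rfl⟩,
          fun ⟨x, hx⟩ => hx ▸ (residue_eq_zero_iff (x : R)).2 x.2⟩
      mono_f := (ModuleCat.mono_iff_injective _).2 (maximalIdeal R).injective_subtype
      epi_g := (ModuleCat.epi_iff_surjective _).2 residue_surjective }
  obtain ⟨x, rfl⟩ := Ext.covariant_sequence_exact₂ _ hS y h
  obtain ⟨n, g, hg⟩ := Module.Finite.exists_fin' R (maximalIdeal R)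
  obtain ⟨z, rfl⟩ := exists_lift hd g hg x
  rw [Ext.comp_assoc_of_third_deg_zero, Ext.mk₀_comp_mk₀]
  let t : Fin n → R := fun i => (g (Pi.single i 1) : R)
  have hsum : (ModuleCat.ofHom g ≫ S.f : ModuleCat.of R (Fin n → R) ⟶ ModuleCat.of R R) =
      ∑ i, t i • ModuleCat.ofHom (LinearMap.proj i : (Fin n → R) →ₗ[R] R) := by
    refine ModuleCat.hom_ext ?_
    rw [ModuleCat.hom_sum]
    refine LinearMap.pi_ext fun i a => ?_
    rw [LinearMap.sum_apply, Finset.sum_eq_single i (fun j _ hj => by simp [Pi.single_eq_of_ne hj])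
      (fun h => absurd (Finset.mem_univ i) h)]
    have : (Pi.single i a : Fin n → R) = a • Pi.single i (1 : R) := by
      rw [← Pi.single_smul, smul_eq_mul, mul_one]
    change ((g (Pi.single i a) : maximalIdeal R) : R) = t i * (Pi.single i a : Fin n → R) i
    rw [this, map_smul, Pi.smul_apply, Pi.single_eq_same, smul_eq_mul, mul_one]
    exact mul_comm _ _
  rw [hsum, Ext.mk₀_sum, Ext.comp_sum]
  refine Finset.sum_eq_zero fun i _ => ?_
  change z.comp (Ext.mk₀ (t i • _)) _ = 0
  rw [Ext.mk₀_smul, Ext.comp_smul]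
  exact Depth.Ext.smul_eq_zero_of_annihilator_src
    (Goren.Basic.mem_annihilator_residueField (g (Pi.single i 1)).2) _

/-- `Ext^d(k, M) ≠ 0` for a nonzero finite module `M`. -/
theorem not_subsingleton_ext_top (hd : ringKrullDim R = d) (M : Type u) [AddCommGroup M] [Module R M]
    [Module.Finite R M] [Nontrivial M] {V : Type u} [AddCommGroup V] [Module R V]
    (e : V ≃ₗ[R] ResidueField R) :
    ¬ Subsingleton (Ext.{u} (ModuleCat.of R V) (ModuleCat.of R M) d) := by
  intro hsub
  obtain ⟨f, hf⟩ := exists_surjective_residueField (R := R) M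
  haveI := nontrivial_ext_residueField (R := R) hd
  obtain ⟨y, hy⟩ := exists_ne (0 : Ext.{u} (ModuleCat.of R (ResidueField R))
    (ModuleCat.of R (ResidueField R)) d)
  obtain ⟨x, rfl⟩ := exists_lift hd f hf y
  apply hy
  have hx : x = 0 := by
    have h1 : x = (Ext.mk₀ e.toModuleIso.inv).comp ((Ext.mk₀ e.toModuleIso.hom).comp x (zero_add d))
        (zero_add d) := by
      rw [Ext.mk₀_comp_mk₀_assoc, Iso.inv_hom_id, Ext.mk₀_id_comp]
    rw [h1, @Subsingleton.elim _ hsub ((Ext.mk₀ e.toModuleIso.hom).comp x (zero_add d)) 0, Ext.comp_zero]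
  rw [hx, Ext.zero_comp]

end Regular

end Groth.Agent.H56.PointHom
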