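import Groth.Agent.H56.ExtVanish.Devissage
import Groth.Agent.H56.PointHom.Ext
import Groth.Agent.H56.PointHom.Local
import Groth.Agent.Lib.Cyc.SheafLen
import Groth.Agent.Lib.Cyc.Dev.SchemeEquiv
import Groth.Agent.Lib.PushClosed.Unit
import Groth.Agent.Lib.RefHull.LocFree
import Groth.Agent.Lib.RefHull.Reflexive
import Groth.Agent.Lib.CohBasics.Closure
import Groth.Agent.Lib.Depth.Ext
import Groth.Prelude.Def_DCoh2

/-!
# Morphisms to and from the skyscraper at a closed point
-/

set_option autoImplicit false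
set_option linter.style.haveILetI false

universe u

open CategoryTheory CategoryTheory.Limits CategoryTheory.Pretriangulated AlgebraicGeometry DerivedCategory

attribute [local instance] HasDerivedCategory.standard

namespace Groth.Agent.H56.PointHom

open Groth.Agent.Lib Groth.Agent.H56.ExtVanish

theorem exists_ne_zero_single {A : Type (u + 1)} [Category.{u} A] [Abelian A] [HasExt.{u} A] {M N : A}
    {i j : ℤ} (m : ℕ) (hm : j + m = i) (h : ¬ Subsingleton (Abelian.Ext.{u} M N m)) :
    ∃ φ : (singleFunctor A i).obj M ⟶ (singleFunctor A j).obj N, φ ≠ 0 := by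
  obtain ⟨ξ, hξ⟩ : ∃ ξ : Abelian.Ext.{u} M N m, ξ ≠ 0 := by
    by_contra h'
    push Not at h'
    exact h ⟨fun a b => by rw [h' a, h' b]⟩
  let e₁ := ((singleFunctors A).shiftIso i 0 i (by lia)).app M
  let e₂ := ((singleFunctors A).shiftIso i (-(m : ℤ)) j (by lia)).app N
  let e₃ := ((singleFunctors A).shiftIso (m : ℤ) (-(m : ℤ)) 0 (by lia)).app N
  refine ⟨(shiftFunctor (DerivedCategory A) i).preimage (e₁.hom ≫ ξ.hom ≫ e₃.hom ≫ e₂.inv), fun h0 => hξ ?_⟩
  have h1 := congrArg (shiftFunctor (DerivedCategory A) i).map h0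
  rw [Functor.map_preimage, Functor.map_zero] at h1
  have h2 := (cancel_epi e₁.hom).1 (h1.trans comp_zero.symm)
  have h3 := (cancel_mono (e₃.hom ≫ e₂.inv)).1 (h2.trans zero_comp.symm)
  refine Abelian.Ext.ext ?_
  rw [Abelian.Ext.zero_hom]
  exact h3

section Residue

variable {Z X : Scheme.{u}} (i : Z ⟶ X) [IsClosedImmersion i] (z : Z)

theorem nonempty_stalk_equiv (hz : IsField (Z.presheaf.stalk z)) :
    ∀ y : X, i.base z = y →
      Nonempty ((((Scheme.Modules.pushforward i).obj (Coh.structureModule Z)).presheaf.stalk y) ≃ₗ[X.presheaf.stalk y]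
        IsLocalRing.ResidueField (X.presheaf.stalk y)) := by
  rintro y rfl
  obtain ⟨e'⟩ := Cyc.SheafLen.exists_unit_stalk_equiv z
  letI := hz.toField
  refine nonempty_equiv_residueField (i.stalkMap z).hom (i.stalkMap_surjective z)
    (e'.toAddEquiv.toAddMonoidHom.comp (DerivedOX.PullbackStalk.pushStalkMap i z (Coh.structureModule Z)).hom)
    (e'.bijective.comp (PushClosed.Unit.bijective_pushStalkMap i (Coh.structureModule Z) z)) fun c a => ?_
  change e' (DerivedOX.PullbackStalk.pushStalkMap i z (Coh.structureModule Z) (c • a)) = _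
  exact (congrArg e' (DerivedOX.PullbackStalk.pushStalkMap_smul i z _ c a)).trans (map_smul e' _ _)

end Residue

variable {X : Scheme.{u}} {x : X} (hx : IsClosed ({x} : Set X))

/-- The skyscraper at `x` with value `κ(x)`. -/
noncomputable abbrev sky (x : X) : X.Modules :=
  (Coh.push (X.fromSpecResidueField x)).obj (Coh.structureModule _)

include hx in
theorem isClosedImmersion_from : IsClosedImmersion (X.fromSpecResidueField x) :=
  isClosed_singleton_iff_isClosedImmersion.mp hx

include hx in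
theorem subsingleton_stalk_sky {y : X} (hy : y ≠ x) : Subsingleton ((sky x).presheaf.stalk y) := by
  haveI := isClosedImmersion_from hx
  refine PushClosed.Unit.subsingleton_stalk_push (X.fromSpecResidueField x) _ ?_
  rw [Scheme.range_fromSpecResidueField]
  exact hy

include hx in
theorem isCoh_sky [IsLocallyNoetherian X] : Coh.IsCoh (sky x) := by
  haveI := isClosedImmersion_from hx
  exact Cyc.Dev.SchemeEquiv.isCoh_push (X.fromSpecResidueField x) RefHull.Reflexive.isCoh_structure

include hx in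
theorem nonempty_stalk_sky :
    Nonempty ((sky x).presheaf.stalk x ≃ₗ[X.presheaf.stalk x]
      IsLocalRing.ResidueField (X.presheaf.stalk x)) := by
  haveI := isClosedImmersion_from hx
  let z : Spec (X.residueField x) := IsLocalRing.closedPoint _
  refine nonempty_stalk_equiv (X.fromSpecResidueField x) z ?_ x (Scheme.fromSpecResidueField_apply x z)
  exact MulEquiv.isField (Field.toIsField (X.residueField x))
    (stalkClosedPointIso (X.residueField x)).commRingCatIsoToRingEquiv.toMulEquiv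

theorem subsingleton_ext_of_src {R : Type u} [CommRing R] (M N : Type u) [AddCommGroup M] [Module R M]
    [AddCommGroup N] [Module R N] [Subsingleton M] (q : ℕ) :
    Subsingleton (Abelian.Ext.{u} (ModuleCat.of R M) (ModuleCat.of R N) q) := by
  refine subsingleton_of_forall_eq 0 fun α => ?_
  have h1 : (1 : R) ∈ Module.annihilator R M := Module.mem_annihilator.mpr fun m => Subsingleton.elim _ _
  simpa using Depth.Ext.smul_eq_zero_of_annihilator_src h1 α

theorem subsingleton_ext_of_tgt {R : Type u} [CommRing R] (M N : Type u) [AddCommGroup M] [Module R M]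
    [AddCommGroup N] [Module R N] [Subsingleton N] (q : ℕ) :
    Subsingleton (Abelian.Ext.{u} (ModuleCat.of R M) (ModuleCat.of R N) q) := by
  haveI := Functor.map_isZero (Abelian.extFunctorObj.{u} (ModuleCat.of R M) q)
    (ModuleCat.isZero_of_subsingleton (ModuleCat.of R N))
  exact AddCommGrpCat.subsingleton_of_isZero this

variable [IsNoetherian X]

theorem single_eq_zero_of_lt {i j : ℤ} (hij : i < j) {M N : X.Modules}
    (φ : (singleFunctor X.Modules i).obj M ⟶ (singleFunctor X.Modules j).obj N) : φ = 0 :=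
  TStructure.t.zero φ i j hij

include hx in
theorem hom_to_sky_eq_zero {M : X.Modules} (hM : Coh.IsCoh M) (hxM : x ∉ CohB1.support M) {i j : ℤ}
    (φ : (singleFunctor X.Modules i).obj M ⟶ (singleFunctor X.Modules j).obj (sky x)) : φ = 0 := by
  rcases lt_or_ge i j with hij | hij
  · exact single_eq_zero_of_lt hij φ
  refine eq_zero_single (i - j).toNat (by omega) ((subsingleton_ext_iff hx hM (fun y hy q => ?_) _).2 ?_) φ
  · haveI := subsingleton_stalk_sky hx hy
    exact subsingleton_ext_of_tgt _ _ q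
  · haveI := not_not.1 hxM
    exact subsingleton_ext_of_src _ _ _

include hx in
theorem exists_hom_to_sky {M : X.Modules} (hM : Coh.IsCoh M) (hxM : x ∈ CohB1.support M) (i : ℤ) :
    ∃ φ : (singleFunctor X.Modules i).obj M ⟶ (singleFunctor X.Modules i).obj (sky x), φ ≠ 0 := by
  refine exists_ne_zero_single 0 (by omega) fun h => ?_
  have h' := (subsingleton_ext_iff hx hM (fun y hy q => ?_) 0).1 h
  · haveI := RefHull.LocFree.finite_stalk hM x
    haveI : Nontrivial (M.presheaf.stalk x) := not_subsingleton_iff_nontrivial.1 hxM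
    obtain ⟨e⟩ := nonempty_stalk_sky hx
    exact not_subsingleton_hom (R := X.presheaf.stalk x) (M.presheaf.stalk x) e h'
  · haveI := subsingleton_stalk_sky hx hy
    exact subsingleton_ext_of_tgt _ _ q

section Regular

variable [IsRegularLocalRing (X.presheaf.stalk x)] {e : ℕ} (he : ringKrullDim (X.presheaf.stalk x) = e)

include hx he in
theorem hom_from_sky_eq_zero {M : X.Modules} {i j : ℤ} (h : x ∉ CohB1.support M ∨ j + e < i)
    (φ : (singleFunctor X.Modules i).obj (sky x) ⟶ (singleFunctor X.Modules j).obj M) : φ = 0 := by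
  rcases lt_or_ge i j with hij | hij
  · exact single_eq_zero_of_lt hij φ
  refine eq_zero_single (i - j).toNat (by omega) ((subsingleton_ext_iff hx (isCoh_sky hx) (fun y hy q => ?_) _).2 ?_) φ
  · haveI := subsingleton_stalk_sky hx hy
    exact subsingleton_ext_of_src _ _ q
  · rcases h with h | h
    · haveI := not_not.1 h
      exact subsingleton_ext_of_tgt _ _ _
    · haveI := RefHull.LocFree.finite_stalk (isCoh_sky hx) x
      exact subsingleton_ext_above he _ _ (by omega)

include hx he in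
theorem exists_hom_from_sky {M : X.Modules} (hM : Coh.IsCoh M) (hxM : x ∈ CohB1.support M) (j : ℤ) :
    ∃ φ : (singleFunctor X.Modules (j + e)).obj (sky x) ⟶ (singleFunctor X.Modules j).obj M, φ ≠ 0 := by
  refine exists_ne_zero_single e rfl fun h => ?_
  have h' := (subsingleton_ext_iff hx (isCoh_sky hx) (fun y hy q => ?_) e).1 h
  · haveI := RefHull.LocFree.finite_stalk hM x
    haveI : Nontrivial (M.presheaf.stalk x) := not_subsingleton_iff_nontrivial.1 hxM
    obtain ⟨e'⟩ := nonempty_stalk_sky hx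
    exact not_subsingleton_ext_top (R := X.presheaf.stalk x) he (M.presheaf.stalk x) e' h'
  · haveI := subsingleton_stalk_sky hx hy
    exact subsingleton_ext_of_src _ _ q

end Regular

section Objects

variable (K : DCoh.D X) (hK : DCoh.IsCohD K)

/-- Coherent and zero near `x`. -/
def PX (x : X) (M : X.Modules) : Prop := Coh.IsCoh M ∧ x ∉ CohB1.support M

theorem PX_iso {M N : X.Modules} (e : M ≅ N) (h : PX x M) : PX x N :=
  ⟨CohBasics.Closure.isCoh_of_iso e h.1, by rw [← Modules.Support.support_congr e]; exact h.2⟩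

include hK in
theorem coh_zero {M : X.Modules} (h : IsZero M) : Coh.IsCoh M :=
  CohBasics.Closure.isCoh_of_iso ((isZero_kernel_of_mono (𝟙 _)).iso h)
    (CohBasics.Closure.isCoh_kernel (𝟙 _) (hK 0) (hK 0).1)

include hK in
theorem PX_zero {M : X.Modules} (h : IsZero M) : PX x M :=
  ⟨coh_zero K hK h, by rw [Modules.Support.support_eq_empty_iff.2 h]; exact fun h => h⟩

include hK in
theorem PX_truncGE {b i : ℤ} (hb : ∀ k, b ≤ k → x ∉ CohB1.support (DCoh.HD K k)) :
    PX x ((homologyFunctor X.Modules i).obj ((TStructure.t.truncGE b).obj K)) := by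
  by_cases hi : b ≤ i
  · exact PX_iso (@asIso _ _ _ _ _ (@DerCat.TStruct.isIso_homologyMap_mor₂ _ _ _ _ _
      (TStructure.t.triangleLTGE_distinguished b K) (b - 1)
      (inferInstance : TStructure.t.IsLE ((TStructure.t.truncLT b).obj K) (b - 1)) i (by lia)))
      ⟨hK i, hb i hi⟩
  · exact PX_zero K hK (@isZero_of_isGE _ _ _ _ _ b i (by lia)
      (inferInstance : TStructure.t.IsGE ((TStructure.t.truncGE b).obj K) b))

include hx hK in
/-- Morphisms to shifted skyscrapers vanish above the degrees seen at `x`. -/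
theorem eq_zero_to_sky (c : ℤ) (hc : TStructure.t.IsLE K c) {b i : ℤ} (hi : b < i)
    (hb : ∀ k, b < k → x ∉ CohB1.support (DCoh.HD K k))
    (φ : K ⟶ (singleFunctor X.Modules i).obj (sky x)) : φ = 0 := by
  obtain ⟨ψ, hψ⟩ := Triangle.yoneda_exact₂ _ (TStructure.t.triangleLTGE_distinguished i K) φ
    (TStructure.t.zero _ (i - 1) i (by lia))
  have hle : TStructure.t.IsLE ((TStructure.t.truncGE i).obj K) (i + (c + 1 - i).toNat - 1) := by
    haveI : TStructure.t.IsLE K (i + (c + 1 - i).toNat - 1) :=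
      TStructure.t.isLE_of_le K c _ (by lia)
    infer_instance
  have h0 : ψ = 0 := eq_zero_of_src (PX x) PX_iso (PX_zero K hK) _ i
    (fun k M _ hM ψ => hom_to_sky_eq_zero hx hM.1 hM.2 ψ) _ ((TStructure.t.truncGE i).obj K)
    (inferInstance : TStructure.t.IsGE ((TStructure.t.truncGE i).obj K) i) hle
    (fun k => PX_truncGE K hK (fun k hk => hb k (by lia))) ψ
  rw [hψ, h0]
  exact comp_zero

include hK in
/-- The largest degree whose cohomology is supported at `x`. -/
theorem exists_top (c : ℤ) (hc : TStructure.t.IsLE K c) {i : ℤ} (hi : x ∈ CohB1.support (DCoh.HD K i)) :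
    ∃ i₀ : ℤ, i ≤ i₀ ∧ x ∈ CohB1.support (DCoh.HD K i₀) ∧
      ∀ k, i₀ < k → x ∉ CohB1.support (DCoh.HD K k) := by
  obtain ⟨i₀, h₀, hmax⟩ := Int.exists_greatest_of_bdd (P := fun k => x ∈ CohB1.support (DCoh.HD K k))
    ⟨c, fun k hk => by
      by_contra hck
      rw [Modules.Support.support_eq_empty_iff.2 (@isZero_of_isLE _ _ _ _ _ c k (by lia) hc)] at hk
      exact hk⟩ ⟨i, hi⟩
  exact ⟨i₀, hmax i hi, h₀, fun k hk h => by have := hmax k h; omega⟩

include hx hK in
/-- A nonzero morphism to a shifted skyscraper in the top degree seen at `x`. -/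
theorem exists_ne_zero_to_sky (c : ℤ) (hc : TStructure.t.IsLE K c) {i₀ : ℤ}
    (h₀ : x ∈ CohB1.support (DCoh.HD K i₀)) (hmax : ∀ k, i₀ < k → x ∉ CohB1.support (DCoh.HD K k)) :
    ∃ φ : K ⟶ (singleFunctor X.Modules i₀).obj (sky x), φ ≠ 0 := by
  let K2 := (TStructure.t.truncGE i₀).obj K
  have hT := TStructure.t.triangleLTGE_distinguished (i₀ + 1) K2
  have hK2 : DCoh.IsCohD K2 := fun k =>
    cohom_truncGE (fun M : X.Modules => Coh.IsCoh M) (fun e h => CohBasics.Closure.isCoh_of_iso e h)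
      (fun h => coh_zero K hK h) hK i₀ k
  obtain ⟨M, hM, ⟨e⟩⟩ := exists_single (fun M : X.Modules => Coh.IsCoh M ∧ x ∈ CohB1.support M)
    (fun e h => ⟨CohBasics.Closure.isCoh_of_iso e h.1, Modules.Support.support_congr e ▸ h.2⟩)
    ((TStructure.t.truncLT (i₀ + 1)).obj K2) i₀
    (inferInstance : TStructure.t.IsGE ((TStructure.t.truncLT (i₀ + 1)).obj K2) i₀)
    (TStructure.t.isLE_truncLT_obj K2 (i₀ + 1) i₀ (by lia))
    ⟨cohom_truncLT (fun M : X.Modules => Coh.IsCoh M) (fun e h => CohBasics.Closure.isCoh_of_iso e h)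
      (fun h => coh_zero K hK h) hK2 (i₀ + 1) i₀, by
      let e₁ := @asIso _ _ _ _ _ (@DerCat.TStruct.isIso_homologyMap_mor₁ _ _ _ _ _
        (TStructure.t.triangleLTGE_distinguished (i₀ + 1) K2) (i₀ + 1)
        (inferInstance : TStructure.t.IsGE ((TStructure.t.truncGE (i₀ + 1)).obj K2) (i₀ + 1)) i₀ (by lia))
      let e₂ := @asIso _ _ _ _ _ (@DerCat.TStruct.isIso_homologyMap_mor₂ _ _ _ _ _
        (TStructure.t.triangleLTGE_distinguished i₀ K) (i₀ - 1)
        (inferInstance : TStructure.t.IsLE ((TStructure.t.truncLT i₀).obj K) (i₀ - 1)) i₀ (by lia))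
      exact (Modules.Support.support_congr (e₁ ≪≫ e₂.symm)).symm ▸ h₀⟩
  obtain ⟨φ₀, hφ₀⟩ := exists_hom_to_sky hx hM.1 hM.2 i₀
  let R := (TStructure.t.truncGE (i₀ + 1)).obj K2
  have hR : ∀ k, PX x ((homologyFunctor X.Modules k).obj R) := fun k =>
    PX_truncGE K2 hK2 fun l hl h => hmax l (by lia) (by
      let e₂ := @asIso _ _ _ _ _ (@DerCat.TStruct.isIso_homologyMap_mor₂ _ _ _ _ _
        (TStructure.t.triangleLTGE_distinguished i₀ K) (i₀ - 1)
        (inferInstance : TStructure.t.IsLE ((TStructure.t.truncLT i₀).obj K) (i₀ - 1)) l (by lia))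
      exact (Modules.Support.support_congr e₂).symm ▸ h)
  have hobs : ∀ χ : R⟦(-1 : ℤ)⟧ ⟶ (singleFunctor X.Modules i₀).obj (sky x), χ = 0 := by
    have h1 : TStructure.t.IsLE R c := by
      haveI := hc
      infer_instance
    have h2 : TStructure.t.IsGE R (i₀ + 1) := inferInstance
    have h3 : TStructure.t.IsLE (R⟦(-1 : ℤ)⟧) (i₀ + 2 + (c - i₀).toNat - 1) := by
      have := TStructure.t.isLE_of_le R c (i₀ + (c - i₀).toNat) (by lia)
      exact TStructure.t.isLE_shift R (i₀ + (c - i₀).toNat) (-1) _ (by lia)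
    exact fun χ => eq_zero_of_src (PX x) PX_iso (PX_zero K hK) _ (i₀ + 2)
      (fun k M _ hM ψ => hom_to_sky_eq_zero hx hM.1 hM.2 ψ) _ (R⟦(-1 : ℤ)⟧)
      (TStructure.t.isGE_shift R (i₀ + 1) (-1) (i₀ + 2) (by lia)) h3
      (fun k => PX_iso (((homologyFunctor X.Modules 0).shiftIso (-1) k (k - 1) (by lia)).app R).symm
        (hR (k - 1))) χ
  obtain ⟨ψ, hψ⟩ := Triangle.yoneda_exact₂ _ (inv_rot_of_distTriang _ hT) (e.hom ≫ φ₀) (hobs _)
  refine ⟨(TStructure.t.truncGEπ i₀).app K ≫ ψ, fun h => hφ₀ ?_⟩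
  obtain ⟨g, hg⟩ := Triangle.yoneda_exact₃ _ (TStructure.t.triangleLTGE_distinguished i₀ K) ψ h
  haveI : TStructure.t.IsLE (((TStructure.t.triangleLTGE i₀).obj K).obj₁⟦(1 : ℤ)⟧) (i₀ - 2) :=
    TStructure.t.isLE_shift ((TStructure.t.truncLT i₀).obj K) (i₀ - 1) 1 (i₀ - 2)
  have hg0 : g = 0 := TStructure.t.zero _ (i₀ - 2) i₀ (by lia)
  have hψ0 : ψ = 0 := by rw [hg, hg0]; exact comp_zero
  have h' := hψ
  rw [hψ0, comp_zero] at h'
  exact (cancel_epi e.hom).1 ((Eq.trans h' (by rfl) : e.hom ≫ φ₀ = 0).trans comp_zero.symm)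

include hx hK in
/-- A nonzero morphism from a shifted skyscraper when the stalk at `x` is not acyclic. -/
theorem exists_ne_zero_from_sky [IsRegularLocalRing (X.presheaf.stalk x)] {e : ℕ}
    (he : ringKrullDim (X.presheaf.stalk x) = e) (a c : ℤ) (ha : TStructure.t.IsGE K a)
    (hc : TStructure.t.IsLE K c) {i₀ : ℤ}
    (h₀ : x ∈ CohB1.support (DCoh.HD K i₀)) (hmax : ∀ k, i₀ < k → x ∉ CohB1.support (DCoh.HD K k)) :
    ∃ φ : (singleFunctor X.Modules (i₀ + e)).obj (sky x) ⟶ K, φ ≠ 0 := by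
  let K2 := (TStructure.t.truncLT (i₀ + 1)).obj K
  have hT := TStructure.t.triangleLTGE_distinguished i₀ K2
  have hK2 : DCoh.IsCohD K2 := fun k =>
    cohom_truncLT (fun M : X.Modules => Coh.IsCoh M) (fun e h => CohBasics.Closure.isCoh_of_iso e h)
      (fun h => coh_zero K hK h) hK (i₀ + 1) k
  obtain ⟨M, hM, ⟨eM⟩⟩ := exists_single (fun M : X.Modules => Coh.IsCoh M ∧ x ∈ CohB1.support M)
    (fun e h => ⟨CohBasics.Closure.isCoh_of_iso e h.1, Modules.Support.support_congr e ▸ h.2⟩)
    ((TStructure.t.truncGE i₀).obj K2) i₀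
    (inferInstance : TStructure.t.IsGE ((TStructure.t.truncGE i₀).obj K2) i₀)
    (by
      haveI := TStructure.t.isLE_truncLT_obj K (i₀ + 1) i₀ (by lia)
      exact (inferInstance : TStructure.t.IsLE ((TStructure.t.truncGE i₀).obj K2) i₀))
    ⟨cohom_truncGE (fun M : X.Modules => Coh.IsCoh M) (fun e h => CohBasics.Closure.isCoh_of_iso e h)
      (fun h => coh_zero K hK h) hK2 i₀ i₀, by
      let e₁ := @asIso _ _ _ _ _ (@DerCat.TStruct.isIso_homologyMap_mor₂ _ _ _ _ _
        (TStructure.t.triangleLTGE_distinguished i₀ K2) (i₀ - 1)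
        (inferInstance : TStructure.t.IsLE ((TStructure.t.truncLT i₀).obj K2) (i₀ - 1)) i₀ (by lia))
      let e₂ := @asIso _ _ _ _ _ (@DerCat.TStruct.isIso_homologyMap_mor₁ _ _ _ _ _
        (TStructure.t.triangleLTGE_distinguished (i₀ + 1) K) (i₀ + 1)
        (inferInstance : TStructure.t.IsGE ((TStructure.t.truncGE (i₀ + 1)).obj K) (i₀ + 1)) i₀ (by lia))
      exact (Modules.Support.support_congr (e₁.symm ≪≫ e₂)).symm ▸ h₀⟩
  obtain ⟨φ₀, hφ₀⟩ := exists_hom_from_sky hx he hM.1 hM.2 i₀
  let B := (TStructure.t.truncLT i₀).obj K2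
  have hobs : ∀ χ : (singleFunctor X.Modules (i₀ + e)).obj (sky x) ⟶ B⟦(1 : ℤ)⟧, χ = 0 := by
    haveI := ha
    have h1 : TStructure.t.IsGE B a := inferInstance
    have h2 : TStructure.t.IsGE (B⟦(1 : ℤ)⟧) (i₀ - 1 - (i₀ - a).toNat) := by
      have := TStructure.t.isGE_of_ge B (i₀ - (i₀ - a).toNat) a (by lia)
      exact TStructure.t.isGE_shift B (i₀ - (i₀ - a).toNat) 1 _ (by lia)
    exact fun χ => eq_zero_of_tgt (fun _ : X.Modules => True) (fun _ h => h) (fun _ => trivial) _ (i₀ - 1)
      (fun j N hj _ ψ => hom_from_sky_eq_zero hx he (Or.inr (by lia)) ψ) _ (B⟦(1 : ℤ)⟧) h2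
      (TStructure.t.isLE_shift B (i₀ - 1) 1 (i₀ - 1 - 1)) (fun _ => trivial) χ
  obtain ⟨ψ, hψ⟩ := Triangle.coyoneda_exact₃ _ hT (φ₀ ≫ eM.inv) (hobs _)
  refine ⟨ψ ≫ (TStructure.t.truncLTι (i₀ + 1)).app K, fun h => hφ₀ ?_⟩
  have hψ0 : ψ = 0 := by
    let R := (TStructure.t.truncGE (i₀ + 1)).obj K
    obtain ⟨g, hg⟩ := Triangle.coyoneda_exact₂ _
      (inv_rot_of_distTriang _ (TStructure.t.triangleLTGE_distinguished (i₀ + 1) K)) ψ h
    have hg0 : g = 0 := by
      haveI := hc
      have h1 : TStructure.t.IsGE R (i₀ + 1) := inferInstance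
      have h2 : TStructure.t.IsLE R c := inferInstance
      let n : ℕ := (c - i₀).toNat
      refine eq_zero_of_tgt (PX x) PX_iso (PX_zero K hK) _ (i₀ + 2 + n)
        (fun j N _ hN ψ => hom_from_sky_eq_zero hx he (Or.inl hN.2) ψ) n (R⟦(-1 : ℤ)⟧) ?_ ?_
        (fun k => PX_iso (((homologyFunctor X.Modules 0).shiftIso (-1) k (k - 1) (by lia)).app R).symm
          (PX_truncGE K hK fun l hl => hmax l (by lia))) g
      · exact TStructure.t.isGE_shift R (i₀ + 1) (-1) _ (by lia)
      · have := TStructure.t.isLE_of_le R c (i₀ + n) (by lia)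
        exact TStructure.t.isLE_shift R (i₀ + n) (-1) _ (by lia)
    rw [hg, hg0]
    exact zero_comp
  have h' := hψ
  rw [hψ0, zero_comp] at h'
  exact (cancel_mono eM.inv).1 ((Eq.trans h' (by rfl) : φ₀ ≫ eM.inv = 0).trans zero_comp.symm)

end Objects

end Groth.Agent.H56.PointHom
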