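import Groth.Agent.H56.PointHom.Main
import Groth.Agent.Lib.Perfect.Coherent
import Groth.Prelude.Def_Models

/-!
# Orthogonality to point sheaves
-/

set_option autoImplicit false
set_option linter.style.haveILetI false

universe u

open CategoryTheory CategoryTheory.Limits AlgebraicGeometry DerivedCategory

attribute [local instance] HasDerivedCategory.standard

namespace Groth.Agent.H56.PointHom

open Groth.Agent.Lib

variable {X : Scheme.{u}} [IsNoetherian X] {x : X}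

theorem exists_nhd (K : DCoh.D X) (hK : DCoh.IsCohD K) (a c : ℤ) (ha : TStructure.t.IsGE K a)
    (hc : TStructure.t.IsLE K c) (h : ∀ i, x ∉ CohB1.support (DCoh.HD K i)) :
    ∃ U : X.Opens, x ∈ U ∧ ∀ (i : ℤ) (y : X), y ∈ U → y ∉ CohB1.support (DCoh.HD K i) := by
  have hcl : IsClosed (⋃ i ∈ Finset.Icc a c, CohB1.support (DCoh.HD K i)) :=
    isClosed_biUnion_finset fun i _ => by
      haveI : SheafOfModules.IsFiniteType (R := X.ringCatSheaf) (DCoh.HD K i) := (hK i).2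
      exact Modules.Support.isClosed_support _
  refine ⟨⟨_, hcl.isOpen_compl⟩, fun hx => ?_, fun i y hy hys => hy ?_⟩
  · obtain ⟨i, -, hi⟩ := Set.mem_iUnion₂.1 hx
    exact h i hi
  · refine Set.mem_iUnion₂.2 ⟨i, Finset.mem_Icc.2 ⟨?_, ?_⟩, hys⟩ <;> by_contra hlt
    · rw [Modules.Support.support_eq_empty_iff.2 (@isZero_of_isGE _ _ _ _ _ a i (by lia) ha)] at hys
      exact hys
    · rw [Modules.Support.support_eq_empty_iff.2 (@isZero_of_isLE _ _ _ _ _ c i (by lia) hc)] at hys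
      exact hys

variable (hx : IsClosed ({x} : Set X))

include hx in
theorem stalks_vanish_iff (K : DCoh.D X) (hK : DCoh.IsCohD K) (c : ℤ) (hc : TStructure.t.IsLE K c) (b : ℤ) :
    (∀ i : ℤ, b < i → x ∉ CohB1.support (DCoh.HD K i)) ↔
      ∀ i : ℤ, b < i → ∀ φ : K ⟶ (shiftFunctor (DCoh.D X) (-i)).obj (DCoh.inD X (sky x)), φ = 0 := by
  let e : ∀ i : ℤ, (shiftFunctor (DCoh.D X) (-i)).obj (DCoh.inD X (sky x)) ≅
      (singleFunctor X.Modules i).obj (sky x) := fun i =>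
    ((singleFunctors X.Modules).shiftIso (-i) i 0 (by lia)).app (sky x)
  constructor
  · intro h i hi φ
    exact (cancel_mono (e i).hom).1 ((eq_zero_to_sky hx K hK c hc hi h (φ ≫ (e i).hom)).trans zero_comp.symm)
  · intro h i hi hmem
    obtain ⟨i₀, hii₀, h₀, hmax⟩ := exists_top K hK c hc hmem
    obtain ⟨φ, hφ⟩ := exists_ne_zero_to_sky hx K hK c hc h₀ hmax
    have h' := h i₀ (by lia) (φ ≫ (e i₀).inv)
    exact hφ ((cancel_mono (e i₀).inv).1 (h'.trans zero_comp.symm))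

include hx in
theorem perfect_orthogonal (hreg : Models.IsRegularScheme X) (K : DCoh.D X) (hK : DCoh.IsPerfect K) :
    ((∀ (i : ℤ) (φ : DCoh.inD X (sky x) ⟶ (shiftFunctor (DCoh.D X) i).obj K), φ = 0) →
      ∃ U : X.Opens, x ∈ U ∧ ∀ (i : ℤ) (y : X), y ∈ U → y ∉ CohB1.support (DCoh.HD K i)) ∧
    ((∀ (i : ℤ) (φ : K ⟶ (shiftFunctor (DCoh.D X) i).obj (DCoh.inD X (sky x))), φ = 0) →
      ∃ U : X.Opens, x ∈ U ∧ ∀ (i : ℤ) (y : X), y ∈ U → y ∉ CohB1.support (DCoh.HD K i)) := by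
  have hcoh := Perfect.Coherent.isCohD_of_isPerfect hK
  obtain ⟨a, c, ha, hc⟩ := Perfect.Coherent.bounded_of_isPerfect hK
  refine ⟨fun h => exists_nhd K hcoh a c ha hc fun i hi => ?_,
    fun h => exists_nhd K hcoh a c ha hc fun i => ?_⟩
  · haveI := hreg x
    obtain ⟨i₀, -, h₀, hmax⟩ := exists_top K hcoh c hc hi
    obtain ⟨φ, hφ⟩ := exists_ne_zero_from_sky hx K hcoh
      (IsRegularLocalRing.spanFinrank_maximalIdeal (R := X.presheaf.stalk x)).symm a c ha hc h₀ hmax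
    let j : ℤ := i₀ + (IsLocalRing.maximalIdeal (X.presheaf.stalk x)).spanFinrank
    let e₁ := ((singleFunctors X.Modules).shiftIso j 0 j (by lia)).app (sky x)
    have h' := h j (e₁.inv ≫ φ⟦j⟧')
    have h1 := (cancel_epi e₁.inv).1 (h'.trans comp_zero.symm)
    exact hφ ((shiftFunctor (DCoh.D X) j).map_injective (h1.trans ((shiftFunctor (DCoh.D X) j).map_zero _ _).symm))
  · refine (stalks_vanish_iff hx K hcoh c hc (i - 1)).2 (fun k _ φ => h (-k) φ) i (by lia)

end Groth.Agent.H56.PointHom
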